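import Mathlib
import Cfsg.Agent.H598.NoZero

/-!
# The excess of an irreducible character over a Galois-stable set

For a Galois-stable set `Y` of elements at which `χ` does not vanish,
`|Y| ≤ ∑_{g ∈ Y} |χ g|²` (`card_le`), and, if `Z` is the set of zeros of `χ`,
`∑_{g ∈ Y} |χ g|² ≤ |Y| + |Z|` (`sum_le`).
Half lemma: if `χ` and `ψ` are different irreducible characters with `χ g * conj (ψ g) = ε`,
`|χ g| = |ψ g| = 1` for all `g ∈ A`, then `2 * |A| ≤ |G|` (`half`, `half_one`).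
-/

set_option autoImplicit false

namespace Cfsg.Agent.H695.OneZero

open Cfsg Cfsg.Agent.Characters Cfsg.Agent.H686.CharKit Finset
open scoped ComplexConjugate

universe u

variable {G : Type u} [Group G] [Fintype G] [DecidableEq G]

/-- A set of elements closed under the powers prime to the group order. -/
def Gal (Y : Finset G) : Prop := ∀ g ∈ Y, ∀ k : ℕ, k.Coprime (Nat.card G) → g ^ k ∈ Y

omit [Fintype G] in
theorem Gal.union {Y Y' : Finset G} (h : Gal Y) (h' : Gal Y') : Gal (Y ∪ Y') := by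
  intro g hg k hk
  rcases mem_union.1 hg with hg | hg
  · exact mem_union_left _ (h g hg k hk)
  · exact mem_union_right _ (h' g hg k hk)

omit [Fintype G] in
theorem Gal.inter {Y Y' : Finset G} (h : Gal Y) (h' : Gal Y') : Gal (Y ∩ Y') := fun g hg k hk =>
  mem_inter.2 ⟨h g (mem_inter.1 hg).1 k hk, h' g (mem_inter.1 hg).2 k hk⟩

omit [Fintype G] in
theorem Gal.image [Finite G] {Y : Finset G} (h : Gal Y) {k : ℕ} (hk : k.Coprime (Nat.card G)) :
    Y.image (fun g : G => g ^ k) = Y := by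
  have hinj : Function.Injective fun g : G => g ^ k := (powCoprime hk.symm).injective
  refine Finset.eq_of_subset_of_card_le (fun y hy => ?_) ?_
  · obtain ⟨g, hg, rfl⟩ := mem_image.1 hy
    exact h g hg k hk
  · rw [Finset.card_image_of_injective _ hinj]

/-- The powers prime to the group order permute a Galois-stable set. -/
theorem Gal.sum_pow {Y : Finset G} (h : Gal Y) {k : ℕ} (hk : k.Coprime (Nat.card G))
    (f : G → ℝ) : ∑ g ∈ Y, f (g ^ k) = ∑ g ∈ Y, f g := by
  have hinj : Function.Injective fun g : G => g ^ k := (powCoprime hk.symm).injective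
  conv_rhs => rw [← h.image hk]
  rw [Finset.sum_image fun a _ b _ hab => hinj hab]

/-- An irreducible character without zeros on a Galois-stable set. -/
theorem card_le (χ : IrrCharacter G) {Y : Finset G} (hY : Gal Y)
    (h0 : ∀ g ∈ Y, (χ : G → ℂ) g ≠ 0) :
    (Y.card : ℝ) ≤ ∑ g ∈ Y, Complex.normSq ((χ : G → ℂ) g) := by
  have : NeZero (Nat.card G) := ⟨Nat.card_pos.ne'⟩
  have h1 : ∀ g ∈ Y, (Fintype.card (ZMod (Nat.card G))ˣ : ℝ)
      ≤ ∑ m : (ZMod (Nat.card G))ˣ,
        Complex.normSq ((χ : G → ℂ) (g ^ (m : ZMod (Nat.card G)).val)) := fun g hg =>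
    H598.NoZero.le_sum_norm_sq χ (h0 g hg)
  have h2 := Finset.sum_le_sum h1
  rw [Finset.sum_const, nsmul_eq_mul, Finset.sum_comm] at h2
  rw [Finset.sum_congr rfl fun (m : (ZMod (Nat.card G))ˣ) _ =>
    hY.sum_pow (ZMod.val_coe_unit_coprime m) fun g => Complex.normSq ((χ : G → ℂ) g),
    Finset.sum_const, nsmul_eq_mul, Finset.card_univ, mul_comm] at h2
  have hpos : (0 : ℝ) < Fintype.card (ZMod (Nat.card G))ˣ := by exact_mod_cast Fintype.card_pos
  exact le_of_mul_le_mul_left h2 hpos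

omit [DecidableEq G] in
theorem sum_normSq (χ : IrrCharacter G) :
    ∑ g : G, Complex.normSq ((χ : G → ℂ) g) = Fintype.card G := by
  have h := Core.classInner_irr_self χ.2
  unfold classInner at h
  have hG : (Nat.card G : ℂ) ≠ 0 := by exact_mod_cast Nat.card_pos.ne'
  have h2 : ∑ g : G, (χ : G → ℂ) g * (starRingEnd ℂ) ((χ : G → ℂ) g) = (Nat.card G : ℂ) := by
    field_simp at h
    exact h
  have h3 : ((∑ g : G, Complex.normSq ((χ : G → ℂ) g) : ℝ) : ℂ) = ((Fintype.card G : ℝ) : ℂ) := by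
    push_cast
    rw [Nat.card_eq_fintype_card] at h2
    rw [← h2]
    refine Finset.sum_congr rfl fun g _ => ?_
    rw [Complex.mul_conj]
  exact_mod_cast h3

omit [DecidableEq G] in
/-- The zeros of a character form a Galois-stable set. -/
theorem gal_zero (χ : IrrCharacter G) :
    Gal (univ.filter fun g : G => (χ : G → ℂ) g = 0) := by
  intro g hg k hk
  obtain ⟨σ, hσ⟩ := GaloisBasic.exists_ringEquiv_of_coprime (G := G) hk
  rw [mem_filter] at hg ⊢
  refine ⟨mem_univ _, ?_⟩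
  rw [← hσ _ (Core.isIrr_isCharacter χ.2) g, hg.2, map_zero]

theorem Gal.compl {Y : Finset G} (h : Gal Y) : Gal Yᶜ := by
  intro g hg k hk
  have hinj : Function.Injective fun g : G => g ^ k := (powCoprime hk.symm).injective
  rw [mem_compl] at hg ⊢
  intro hgk
  rw [← h.image hk] at hgk
  obtain ⟨y, hy, hyg⟩ := mem_image.1 hgk
  exact hg (hinj hyg ▸ hy)

/-- **Upper bound for the excess over a Galois-stable set without zeros.** -/
theorem sum_le (χ : IrrCharacter G) {Y : Finset G} (hY : Gal Y)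
    (h0 : ∀ g ∈ Y, (χ : G → ℂ) g ≠ 0) :
    ∑ g ∈ Y, Complex.normSq ((χ : G → ℂ) g)
      ≤ Y.card + (univ.filter fun g : G => (χ : G → ℂ) g = 0).card := by
  set Z : Finset G := univ.filter fun g : G => (χ : G → ℂ) g = 0 with hZ
  have hYZ : Gal (Y ∪ Z)ᶜ := (hY.union (gal_zero χ)).compl
  have h1 := card_le χ hYZ fun g hg h => by
    rw [mem_compl, mem_union, not_or, hZ, mem_filter] at hg
    exact hg.2 ⟨mem_univ _, h⟩
  have hdis : Disjoint Y Z := Finset.disjoint_left.2 fun g hg hg' => h0 g hg (mem_filter.1 hg').2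
  have h2 : ∑ g ∈ (Y ∪ Z)ᶜ, Complex.normSq ((χ : G → ℂ) g)
      + ∑ g ∈ Y ∪ Z, Complex.normSq ((χ : G → ℂ) g) = Fintype.card G := by
    rw [Finset.sum_compl_add_sum, sum_normSq]
  have h3 : ∑ g ∈ Z, Complex.normSq ((χ : G → ℂ) g) = 0 :=
    Finset.sum_eq_zero fun g hg => by rw [(mem_filter.1 hg).2, map_zero]
  rw [Finset.sum_union hdis, h3, add_zero] at h2
  have h4 : (((Y ∪ Z)ᶜ).card : ℝ) + (Y.card + Z.card) = Fintype.card G := by
    rw [← Nat.cast_add, ← Finset.card_union_of_disjoint hdis, ← Nat.cast_add,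
      Finset.card_compl_add_card]
  linarith

omit [DecidableEq G] in
/-- **Half lemma.** Two different irreducible characters of absolute value one whose product
`χ * conj ψ` is constant on a set of elements: the set has at most half of the elements. -/
theorem half (χ ψ : IrrCharacter G) (hne : χ ≠ ψ) (A : Finset G) (ε : ℂ)
    (hε : ‖ε‖ = 1) (hψ : ∀ g ∈ A, ‖(ψ : G → ℂ) g‖ = 1)
    (h : ∀ g ∈ A, (χ : G → ℂ) g = ε * (ψ : G → ℂ) g) : 2 * A.card ≤ Fintype.card G := by
  classical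
  have horth : ∑ g : G, (χ : G → ℂ) g * conj ((ψ : G → ℂ) g) = 0 := by
    have h1 : classInner (χ : G → ℂ) (ψ : G → ℂ) = 0 := Core.classInner_irr_ne χ.2 ψ.2 fun h => hne (Subtype.ext h)
    unfold classInner at h1
    have hG : (Nat.card G : ℂ) ≠ 0 := by exact_mod_cast Nat.card_pos.ne'
    exact (mul_eq_zero.1 h1).resolve_left (inv_ne_zero hG)
  have hA1 : ∀ g ∈ A, (χ : G → ℂ) g * conj ((ψ : G → ℂ) g) = ε := fun g hg => by
    rw [h g hg, mul_assoc, Complex.mul_conj, Complex.normSq_eq_norm_sq, hψ g hg]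
    simp
  have hsplit := Finset.sum_add_sum_compl A fun g : G => (χ : G → ℂ) g * conj ((ψ : G → ℂ) g)
  rw [horth, Finset.sum_congr rfl hA1, Finset.sum_const, nsmul_eq_mul] at hsplit
  have hχA : ∀ g ∈ A, ‖(χ : G → ℂ) g‖ = 1 := fun g hg => by
    rw [h g hg, norm_mul, hε, hψ g hg, mul_one]
  have hB : ∀ φ : IrrCharacter G, (∀ g ∈ A, ‖(φ : G → ℂ) g‖ = 1) →
      ∑ g ∈ Aᶜ, ‖(φ : G → ℂ) g‖ ^ 2 = (Aᶜ).card := fun φ hφ => by
    have h1 := sum_normSq φ
    rw [← Finset.sum_add_sum_compl A, Finset.sum_congr rfl fun g hg => by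
      rw [Complex.normSq_eq_norm_sq, hφ g hg, one_pow], Finset.sum_const, nsmul_eq_mul,
      mul_one] at h1
    have h2 : (A.card : ℝ) + (Aᶜ).card = Fintype.card G := by
      rw [← Nat.cast_add, Finset.card_add_card_compl]
    have h3 : ∑ g ∈ Aᶜ, ‖(φ : G → ℂ) g‖ ^ 2 = ∑ g ∈ Aᶜ, Complex.normSq ((φ : G → ℂ) g) :=
      Finset.sum_congr rfl fun g _ => (Complex.normSq_eq_norm_sq _).symm
    rw [h3]
    linarith
  have h1 : ‖∑ g ∈ Aᶜ, (χ : G → ℂ) g * conj ((ψ : G → ℂ) g)‖ ≤ (Aᶜ).card := by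
    refine (norm_sum_le _ _).trans ?_
    have hcs := Finset.sum_mul_sq_le_sq_mul_sq (Aᶜ) (fun g => ‖(χ : G → ℂ) g‖)
      fun g => ‖(ψ : G → ℂ) g‖
    rw [hB χ hχA, hB ψ hψ, ← sq] at hcs
    have h2 := abs_le_of_sq_le_sq hcs (Nat.cast_nonneg _)
    refine le_trans (le_of_eq ?_) ((le_abs_self _).trans h2)
    refine Finset.sum_congr rfl fun g _ => ?_
    rw [norm_mul, RCLike.norm_conj]
  have h2 : (A.card : ℝ) ≤ (Aᶜ).card := by
    have h3 : ‖(A.card : ℂ) * ε‖ = ‖∑ g ∈ Aᶜ, (χ : G → ℂ) g * conj ((ψ : G → ℂ) g)‖ := by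
      rw [eq_neg_of_add_eq_zero_left hsplit, norm_neg]
    rw [norm_mul, hε, mul_one, Complex.norm_natCast] at h3
    rw [h3]
    exact h1
  have h3 : A.card ≤ (Aᶜ).card := by exact_mod_cast h2
  have h4 := Finset.card_add_card_compl A
  omega

omit [DecidableEq G] in
/-- **Half lemma** for one character: a nontrivial irreducible character is equal to one number
of absolute value one on at most half of the elements. -/
theorem half_one (χ : IrrCharacter G) (hne : ¬ ∀ g, (χ : G → ℂ) g = 1) (A : Finset G) (ε : ℂ)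
    (hε : ‖ε‖ = 1) (h : ∀ g ∈ A, (χ : G → ℂ) g = ε) : 2 * A.card ≤ Fintype.card G :=
  half χ ⟨fun _ => 1, Core.isIrr_one⟩ (fun h => hne fun g => by rw [h]) A ε hε
    (fun _ _ => by simp) fun g hg => by rw [h g hg]; simp

end Cfsg.Agent.H695.OneZero
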