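import Mathlib
import Cfsg.Agent.Characters.Core
import Cfsg.Agent.Blocks.Basic
import Cfsg.Agent.Blocks.ExistsModular
import Cfsg.Agent.S0912
import Cfsg.Agent.S0914
import Cfsg.Agent.S0917
import Cfsg.Agent.S0931
import Cfsg.Agent.Lib.Cores
import Cfsg.Agent.Characters.Clifford
import Cfsg.Agent.Blocks.Knorr
import Cfsg.Agent.S0923
import Cfsg.Agent.S0964
import Cfsg.Agent.S0973
import Cfsg.Agent.S0191
import Cfsg.Agent.H679.Lin

/-!
# Constancy of a character without zeros on `y K`, `y` in an abelian Sylow subgroup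

`R` is an abelian Sylow `r`-subgroup of `G`, `y ∈ R` with `C_G(y) = C_G(R)`, `K ≤ C_G(R)` a subgroup of
order prime to `r` normalized by `N_G(R)`.  Every nonprincipal irreducible character of `K` has a
zero common to all its conjugates under `N_G(R)`.  An irreducible character `χ` of `G` without zeros
on `y K` is constant on `y K` (`kconst`).  Brauer's main theorems.
-/

set_option autoImplicit false
set_option linter.unusedSectionVars false

namespace Cfsg.Agent.H695.OneZero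

open Cfsg Cfsg.Agent.Characters Cfsg.Agent.Blocks.Basic

universe u

variable {G : Type u} [Group G] [Fintype G] {r : ℕ} [Fact r.Prime] {M : Ideal AlgInt}

/-- The class function `c ↦ χ (y c)` on the centralizer of `y`. -/
noncomputable def lf (y : G) (χ : IrrCharacter G) : Subgroup.centralizer ({y} : Set G) → ℂ :=
  fun c => (χ : G → ℂ) (y * (c : G))

omit [Fintype G] in
theorem lf_isClassFunction (y : G) (χ : IrrCharacter G) :
    IsClassFunction (Subgroup.centralizer ({y} : Set G)) (lf y χ) := by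
  intro g h
  show (χ : G → ℂ) (y * ((h : G) * (g : G) * (h : G)⁻¹)) = (χ : G → ℂ) (y * (g : G))
  have h1 : y * ((h : G) * (g : G) * (h : G)⁻¹) = (h : G) * (y * (g : G)) * (h : G)⁻¹ := by
    have h2 : (h : G) * y = y * (h : G) := Subgroup.mem_centralizer_singleton_iff.1 h.2
    rw [← mul_assoc, ← mul_assoc, ← mul_assoc, h2]
  rw [h1]
  exact irr_conj χ.2 _ _

omit [Group G] [Fintype G] [Fact r.Prime] in
/-- A sum over a union of classes, the sums over the other classes being zero. -/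
theorem sum_eq_of_classes {ι β : Type*} [Fintype ι] [DecidableEq ι] [DecidableEq β] (cls : ι → β)
    (S : Finset ι) (a : ι → ℂ) (hS : ∀ i j, cls i = cls j → i ∈ S → j ∈ S)
    (h0 : ∀ i, i ∉ S → ∑ j with cls j = cls i, a j = 0) : ∑ i, a i = ∑ i ∈ S, a i := by
  have h2 : ∑ i ∈ Sᶜ, a i = 0 := by
    rw [← Finset.sum_fiberwise_of_maps_to (s := Sᶜ) (t := Sᶜ.image cls)
      (g := cls) (fun i hi => Finset.mem_image_of_mem cls hi) a]
    refine Finset.sum_eq_zero fun b hb => ?_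
    obtain ⟨i, hi, rfl⟩ := Finset.mem_image.1 hb
    rw [← h0 i (Finset.mem_compl.1 hi)]
    apply Finset.sum_congr ?_ fun _ _ => rfl
    ext j
    simp only [Finset.mem_filter, Finset.mem_compl, Finset.mem_univ, true_and]
    exact ⟨fun h => h.2, fun h => ⟨fun h' => (Finset.mem_compl.1 hi) (hS j i h h'), h⟩⟩
  rw [← Finset.sum_add_sum_compl S, h2, add_zero]

/-- The blocks of the centralizer which do not induce the block of `χ` do not contribute. -/
theorem apply_eq_sum_induced (hM : IsPModular r M) {y : G} (hy : ∃ k : ℕ, orderOf y = r ^ k)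
    {B : Set (IrrCharacter G)} (hB : IsPBlock M B) {χ : IrrCharacter G} (hχ : χ ∈ B)
    [Fintype (Subgroup.centralizer ({y} : Set G))]
    [Fintype (IrrCharacter (Subgroup.centralizer ({y} : Set G)))]
    (S : Finset (IrrCharacter (Subgroup.centralizer ({y} : Set G))))
    (hS : ∀ ψ, ψ ∈ S ↔ IsInducedBlock M (Subgroup.centralizer ({y} : Set G)) (blockOf M ψ.1) B)
    (c : Subgroup.centralizer ({y} : Set G)) (hc : ¬ r ∣ orderOf c) :
    (χ : G → ℂ) (y * c) = ∑ ψ ∈ S, classInner (lf y χ) ψ.1 * ψ.1 c := by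
  classical
  have : M.IsPrime := hM.2.1.isPrime
  have h3 : (χ : G → ℂ) (y * c) = lf y χ c := rfl
  have h1 : lf y χ c = ∑ ψ : IrrCharacter (Subgroup.centralizer ({y} : Set G)),
      classInner (lf y χ) ψ.1 * ψ.1 c := by
    have h2 := congrFun (Core.classFunction_eq_sum (lf_isClassFunction y χ)) c
    rw [h2, Finset.sum_apply]
    rfl
  rw [h3, h1]
  apply sum_eq_of_classes
    (fun ψ : IrrCharacter (Subgroup.centralizer ({y} : Set G)) => blockOf M ψ.1)
  · intro ψ ψ' h h'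
    rw [hS] at h' ⊢
    rw [← h]
    exact h'
  · intro ψ₀ hψ₀
    have hnot : ¬ IsInducedBlock M (Subgroup.centralizer ({y} : Set G)) (blockOf M ψ₀.1) B :=
      fun h => hψ₀ ((hS ψ₀).2 h)
    have h3 := Cfsg.Agent.S0923.result r M hM y hy B hB χ hχ (blockOf M ψ₀.1) ⟨ψ₀, rfl⟩ hnot c hc
    have h4 : blockPart (blockOf M ψ₀.1) (lf y χ) c =
        ∑ᶠ ψ ∈ blockOf M ψ₀.1, classInner (lf y χ) ψ.1 * ψ.1 c := by
      have h5 : Fintype.ofFinite (Subgroup.centralizer ({y} : Set G)) =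
        ‹Fintype (Subgroup.centralizer ({y} : Set G))› := Subsingleton.elim _ _
      rw [← h5]
      rfl
    have h5 : ∑ᶠ ψ ∈ blockOf M ψ₀.1, classInner (lf y χ) ψ.1 * ψ.1 c =
        ∑ ψ : IrrCharacter (Subgroup.centralizer ({y} : Set G)) with
          blockOf M ψ.1 = blockOf M ψ₀.1, classInner (lf y χ) ψ.1 * ψ.1 c := by
      apply finsum_mem_eq_sum_of_inter_support_eq
      ext ψ
      simp only [Set.mem_inter_iff, Finset.coe_filter, Set.mem_setOf_eq, Finset.mem_univ, true_and]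
      constructor
      · rintro ⟨h6, h7⟩
        exact ⟨(isPBlock_eq_blockOf ⟨ψ₀, rfl⟩ h6).symm, h7⟩
      · rintro ⟨h8, h7⟩
        refine ⟨?_, h7⟩
        rw [← h8]
        exact mem_blockOf_self ψ
    rw [← h5, ← h4]
    exact h3

/-- The extended first main theorem, for a subgroup equal to `P C(P)`. -/
theorem fmt (hM : IsPModular r M) {B : Set (IrrCharacter G)} (hB : IsPBlock M B) {P : Subgroup G}
    (hP : IsDefectGroup r M B P) (L : Subgroup G) (hL : L = P ⊔ Subgroup.centralizer (P : Set G))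
    {b b' : Set (IrrCharacter L)} (hb : IsInducedBlock M L b B) (hb' : IsInducedBlock M L b' B) :
    ∃ n ∈ Subgroup.normalizer (P : Set G), ∀ θ ∈ b, ∃ θ' ∈ b', ∀ x : L, ∀ hx : n * (x : G) * n⁻¹ ∈ L,
      (θ' : L → ℂ) x = (θ : L → ℂ) ⟨n * (x : G) * n⁻¹, hx⟩ := by
  subst hL
  exact (Cfsg.Agent.S0973.result r M hM B hB P hP).2 b b' hb hb'

/-- A normal Sylow subgroup of `L` is a defect group of the blocks of `G` induced from `L`. -/
theorem isDefectGroup_of_induced (hM : IsPModular r M) (R : Sylow r G) (L : Subgroup G)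
    (hRL : (R : Subgroup G) ≤ L) (hRn : L ≤ Subgroup.normalizer ((R : Subgroup G) : Set G))
    {b : Set (IrrCharacter L)} {B : Set (IrrCharacter G)} (hind : IsInducedBlock M L b B) :
    IsDefectGroup r M B (R : Subgroup G) := by
  obtain ⟨D, hD, -⟩ := Cfsg.Agent.S0931.exists_defectGroup r M hM b hind.1
  have h1 : pCore r L ≤ D := Cfsg.Agent.S0912.result r M hM b hind.1 D hD
  have h2 : (R : Subgroup G).subgroupOf L ≤ pCore r L :=
    Cfsg.Agent.Lib.Cores.le_pCore (Subgroup.normal_subgroupOf_of_le_normalizer hRn)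
      (R.isPGroup'.comap_subtype)
  obtain ⟨E, hE, hDE⟩ := Cfsg.Agent.S0917.result r M hM L b hind.1 B hind.2.1 hind D hD
  have h3 : (R : Subgroup G) ≤ E := by
    refine le_trans ?_ hDE
    have h4 := Subgroup.map_mono (f := L.subtype) (h2.trans h1)
    rwa [Subgroup.subgroupOf_map_subtype, inf_eq_left.2 hRL] at h4
  have h4 : E = R := R.is_maximal' (isPGroup_of_isDefectGroup hE) h3
  rwa [h4] at hE

/-- The blocks of a group of order prime to `r`. -/
theorem mem_blockOf_iff {H : Type u} [Group H] [Fintype H] (hM : IsPModular r M)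
    (hH : ¬ r ∣ Nat.card H) {φ φ' : IrrCharacter H} (h : φ' ∈ blockOf M φ.1) : φ' = φ := by
  have h1 : ¬ r ∣ Nat.card H / charDegree φ.1 := fun h2 =>
    hH (h2.trans (Nat.div_dvd_of_dvd (Cfsg.Agent.Blocks.Knorr.charDegree_dvd φ.2)))
  have h2 := (Cfsg.Agent.S0914.result r M hM φ).1 h1
  rw [h2] at h
  exact h

section Main

variable (R : Sylow r G) {y : G}

theorem conj_mem_centralizer {n : G} (hn : n ∈ Subgroup.normalizer ((R : Subgroup G) : Set G)) {c : G}
    (hc : c ∈ Subgroup.centralizer ((R : Subgroup G) : Set G)) :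
    n * c * n⁻¹ ∈ Subgroup.centralizer ((R : Subgroup G) : Set G) := by
  rw [Subgroup.mem_centralizer_iff] at hc ⊢
  intro x hx
  have h1 : n⁻¹ * x * n ∈ (R : Subgroup G) := by
    have h2 := (Subgroup.mem_normalizer_iff.1 (Subgroup.inv_mem _ hn) x).1 hx
    rwa [inv_inv] at h2
  have h2 := hc _ h1
  have h3 : x * (n * c * n⁻¹) = n * ((n⁻¹ * x * n) * c) * n⁻¹ := by group
  rw [h3, h2]
  group

theorem centralizer_le_normalizer :
    Subgroup.centralizer ((R : Subgroup G) : Set G) ≤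
      Subgroup.normalizer ((R : Subgroup G) : Set G) := by
  intro c hc
  rw [Subgroup.mem_normalizer_iff]
  rw [Subgroup.mem_centralizer_iff] at hc
  intro x
  constructor
  · intro hx
    have h1 := hc x hx
    rw [← h1, mul_inv_cancel_right]
    exact hx
  · intro hx
    have h1 := hc _ hx
    have h2 : c * x * c⁻¹ = x := by
      have h3 : c * (c * x * c⁻¹) = c * (x * 1) := by
        rw [← h1]
        group
      rw [mul_one] at h3
      exact mul_left_cancel h3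
    rwa [h2] at hx

/-- All constituents on `K` of the characters of `C_G(y)` in the blocks inducing `B` are conjugate
under the normalizer of `R`. -/
theorem constituents_conj (hM : IsPModular r M) (L : Subgroup G)
    (hL : L = Subgroup.centralizer ((R : Subgroup G) : Set G))
    (hab : (R : Subgroup G) ≤ L) (K : Subgroup G) (hKL : K ≤ L) (hKr : ¬ r ∣ Nat.card K)
    (hKN : ∀ n ∈ Subgroup.normalizer ((R : Subgroup G) : Set G), ∀ k ∈ K, n * k * n⁻¹ ∈ K)
    {B : Set (IrrCharacter G)} (hB : IsPBlock M B) [Fintype L] [Fintype (K.subgroupOf L)]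
    {ψ₀ ψ : IrrCharacter L} (h0 : IsInducedBlock M L (blockOf M ψ₀.1) B)
    (h1 : IsInducedBlock M L (blockOf M ψ.1) B) {φ₀ φ : IrrCharacter (K.subgroupOf L)}
    (hφ₀ : classInner (fun k : K.subgroupOf L => ψ₀.1 k) φ₀.1 ≠ 0)
    (hφ : classInner (fun k : K.subgroupOf L => ψ.1 k) φ.1 ≠ 0) :
    ∃ m ∈ Subgroup.normalizer ((R : Subgroup G) : Set G), ∀ k : K.subgroupOf L,
      ∀ hk : m * ((k : L) : G) * m⁻¹ ∈ L, ∀ hk' : (⟨m * ((k : L) : G) * m⁻¹, hk⟩ : L) ∈ K.subgroupOf L,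
      φ.1 k = φ₀.1 ⟨⟨m * ((k : L) : G) * m⁻¹, hk⟩, hk'⟩ := by
  have hLN : L ≤ Subgroup.normalizer ((R : Subgroup G) : Set G) := by
    rw [hL]
    exact centralizer_le_normalizer R
  have hdef := isDefectGroup_of_induced hM R L hab hLN h0
  have hsup : L = (R : Subgroup G) ⊔ Subgroup.centralizer ((R : Subgroup G) : Set G) := by
    rw [← hL, sup_eq_right.2 hab]
  obtain ⟨n, hn, hfmt⟩ := fmt hM hB hdef L hsup h0 h1
  have : M.IsPrime := hM.2.1.isPrime
  obtain ⟨θ', hθ', hθx⟩ := hfmt ψ₀ (mem_blockOf_self ψ₀)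
  have hnL : ∀ x ∈ L, n * x * n⁻¹ ∈ L := by
    intro x hx
    rw [hL] at hx ⊢
    exact conj_mem_centralizer R hn hx
  have hnK : (K.subgroupOf L).Normal := by
    refine ⟨fun k hk g => ?_⟩
    rw [Subgroup.mem_subgroupOf] at hk ⊢
    exact hKN g (hLN g.2) _ hk
  -- the conjugation by `n` on `K`
  let f : K.subgroupOf L →* K.subgroupOf L :=
    { toFun := fun k => ⟨⟨n * ((k : L) : G) * n⁻¹, hnL _ (k : L).2⟩, by
        rw [Subgroup.mem_subgroupOf]
        exact hKN n hn _ (Subgroup.mem_subgroupOf.1 k.2)⟩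
      map_one' := by
        apply Subtype.ext
        apply Subtype.ext
        simp
      map_mul' := fun a b => by
        apply Subtype.ext
        apply Subtype.ext
        show n * (((a : L) : G) * ((b : L) : G)) * n⁻¹ =
          (n * ((a : L) : G) * n⁻¹) * (n * ((b : L) : G) * n⁻¹)
        group }
  have hfinj : Function.Injective f := by
    intro a b hab
    have h2 : n * ((a : L) : G) * n⁻¹ = n * ((b : L) : G) * n⁻¹ :=
      congrArg (fun k : K.subgroupOf L => ((k : L) : G)) hab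
    apply Subtype.ext
    apply Subtype.ext
    exact mul_left_cancel (mul_right_cancel h2)
  have hfbij : Function.Bijective f := Finite.injective_iff_bijective.1 hfinj
  let e : K.subgroupOf L ≃* K.subgroupOf L := MulEquiv.ofBijective f hfbij
  let φ₁ : IrrCharacter (K.subgroupOf L) := ⟨φ₀.1 ∘ f, Core.isIrr_comp f hfbij.2 φ₀.2⟩
  have hφ₁ : classInner (fun k : K.subgroupOf L => θ'.1 k) φ₁.1 ≠ 0 := by
    have h2 := Clifford.classInner_comp_mulEquiv e (fun k : K.subgroupOf L => ψ₀.1 k) φ₀.1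
    rw [← h2] at hφ₀
    intro h3
    apply hφ₀
    rw [← h3]
    congr 1
    funext k
    exact (hθx k (hnL _ (k : L).2)).symm
  have hKr' : ¬ r ∣ Nat.card (K.subgroupOf L) := by
    rwa [Nat.card_congr (Subgroup.subgroupOfEquivOfLe hKL).toEquiv]
  obtain ⟨g, θ'', hθ'', hg⟩ := Cfsg.Agent.S0964.result r M hM (K.subgroupOf L)
    (blockOf M ψ.1) ⟨ψ, rfl⟩ (blockOf M φ₁.1) ⟨φ₁, rfl⟩ θ' hθ' φ₁ (mem_blockOf_self φ₁) hφ₁ ψ
    (mem_blockOf_self ψ) φ hφ
  have h2 := mem_blockOf_iff hM hKr' hθ''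
  rw [h2] at hg
  refine ⟨n * g, mul_mem hn (hLN g.2), fun k hk hk' => ?_⟩
  rw [hg k]
  show φ₀.1 (f _) = _
  refine congrArg φ₀.1 (Subtype.ext (Subtype.ext ?_))
  show n * ((g : G) * ((k : L) : G) * (g : G)⁻¹) * n⁻¹ = n * (g : G) * ((k : L) : G) * (n * (g : G))⁻¹
  group

/-- Restriction to `K`. -/
theorem restrict_eq_sum (L K : Subgroup G) [Fintype (K.subgroupOf L)]
    [Fintype (IrrCharacter (K.subgroupOf L))] (ψ : IrrCharacter L) (k : K.subgroupOf L) :
    ψ.1 k = ∑ φ : IrrCharacter (K.subgroupOf L),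
        classInner (fun k : K.subgroupOf L => ψ.1 k) φ.1 * φ.1 k := by
  have h1 : IsClassFunction (K.subgroupOf L) (fun k : K.subgroupOf L => ψ.1 k) := by
    intro g h
    exact Core.isIrr_isClassFunction ψ.2 _ _
  have h2 := congrFun (Core.classFunction_eq_sum h1) k
  rw [Finset.sum_apply] at h2
  exact h2

theorem exists_constituent (L K : Subgroup G) [Fintype (K.subgroupOf L)] (ψ : IrrCharacter L) :
    ∃ φ : IrrCharacter (K.subgroupOf L), classInner (fun k : K.subgroupOf L => ψ.1 k) φ.1 ≠ 0 := by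
  have hfin' := Core.finite_irr (G := K.subgroupOf L)
  have : Fintype (IrrCharacter (K.subgroupOf L)) := Fintype.ofFinite _
  by_contra hne
  push Not at hne
  have h1 := restrict_eq_sum L K ψ 1
  rw [Finset.sum_eq_zero fun φ _ => by rw [hne φ, zero_mul]] at h1
  exact irr_one_ne_zero ψ.2 h1

/-- The abstract form. -/
theorem const_of_conj (L K : Subgroup G) (N : Set G) (hKL : K ≤ L) [Fintype (K.subgroupOf L)]
    (hKN : ∀ n ∈ N, ∀ k ∈ K, n * k * n⁻¹ ∈ K)
    (S : Finset (IrrCharacter L)) (a : IrrCharacter L → ℂ) (F : G → ℂ)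
    (hval : ∀ k ∈ K, ∀ hk : k ∈ L, F k = ∑ ψ ∈ S, a ψ * ψ.1 ⟨k, hk⟩)
    (hconj : ∀ ψ₀ ∈ S, ∀ ψ ∈ S, ∀ φ₀ φ : IrrCharacter (K.subgroupOf L),
      classInner (fun k : K.subgroupOf L => ψ₀.1 k) φ₀.1 ≠ 0 →
      classInner (fun k : K.subgroupOf L => ψ.1 k) φ.1 ≠ 0 →
      ∃ m ∈ N, ∀ k : K.subgroupOf L,
      ∀ hk : m * ((k : L) : G) * m⁻¹ ∈ L, ∀ hk' : (⟨m * ((k : L) : G) * m⁻¹, hk⟩ : L) ∈ K.subgroupOf L,
      φ.1 k = φ₀.1 ⟨⟨m * ((k : L) : G) * m⁻¹, hk⟩, hk'⟩)
    (hZ : ∀ φ : K → ℂ, IsIrrCharacter K φ → (∃ k, φ k ≠ 1) → ∃ k : K,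
      ∀ n ∈ N, ∀ h : n * (k : G) * n⁻¹ ∈ K, φ ⟨n * (k : G) * n⁻¹, h⟩ = 0)
    (h0 : ∀ k ∈ K, F k ≠ 0) : ∀ k ∈ K, F k = F 1 := by
  classical
  have hfin' := Core.finite_irr (G := K.subgroupOf L)
  have : Fintype (IrrCharacter (K.subgroupOf L)) := Fintype.ofFinite _
  -- a character of the centralizer in a block inducing the block of `χ`
  have hSne : S.Nonempty := by
    by_contra hne
    rw [Finset.not_nonempty_iff_eq_empty] at hne
    apply h0 1 (one_mem K)
    rw [hval 1 (one_mem K) (one_mem L), hne, Finset.sum_empty]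
  obtain ⟨ψ₀, hψ₀⟩ := hSne
  obtain ⟨φ₀, hφ₀⟩ := exists_constituent L K ψ₀
  have hLn : ∀ m ∈ N, ∀ k ∈ K, m * k * m⁻¹ ∈ L := fun m hm k hk => hKL (hKN m hm k hk)
  by_cases hcase : ∀ k : K.subgroupOf L, φ₀.1 k = 1
  · -- all constituents are principal
    have h1 : ∀ ψ ∈ S, ∀ φ : IrrCharacter (K.subgroupOf L),
        classInner (fun k : K.subgroupOf L => ψ.1 k) φ.1 ≠ 0 → ∀ k, φ.1 k = 1 := by
      intro ψ hψ φ hφ k
      obtain ⟨m, hm, h2⟩ := hconj ψ₀ hψ₀ ψ hψ φ₀ φ hφ₀ hφ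
      rw [h2 k (hLn m hm _ (Subgroup.mem_subgroupOf.1 k.2))
        (Subgroup.mem_subgroupOf.2 (hKN m hm _ (Subgroup.mem_subgroupOf.1 k.2)))]
      exact hcase _
    have h2 : ∀ ψ ∈ S, ∀ k : K.subgroupOf L, ψ.1 k = ψ.1 ((1 : K.subgroupOf L) : L) := by
      intro ψ hψ k
      rw [restrict_eq_sum L K ψ k, restrict_eq_sum L K ψ 1]
      refine Finset.sum_congr rfl fun φ _ => ?_
      by_cases hφ : classInner (fun k : K.subgroupOf L => ψ.1 k) φ.1 = 0
      · rw [hφ, zero_mul, zero_mul]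
      · rw [h1 ψ hψ φ hφ k, h1 ψ hψ φ hφ 1]
    intro k hk
    rw [hval k hk (hKL hk), hval 1 (one_mem K) (one_mem L)]
    refine Finset.sum_congr rfl fun ψ hψ => ?_
    congr 1
    exact h2 ψ hψ ⟨⟨k, hKL hk⟩, Subgroup.mem_subgroupOf.2 hk⟩
  · -- a common zero
    exfalso
    push Not at hcase
    obtain ⟨k₀, hk₀⟩ := hcase
    let e : K.subgroupOf L ≃* K := Subgroup.subgroupOfEquivOfLe hKL
    obtain ⟨k, hk⟩ := hZ (φ₀.1 ∘ e.symm) (Core.isIrr_comp e.symm.toMonoidHom e.symm.surjective φ₀.2)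
      ⟨e k₀, by
        show φ₀.1 (e.symm (e k₀)) ≠ 1
        rw [MulEquiv.symm_apply_apply]
        exact hk₀⟩
    have hkL : (k : G) ∈ L := hKL k.2
    have h1 : ∀ ψ ∈ S, ψ.1 ⟨k, hkL⟩ = 0 := by
      intro ψ hψ
      have h2 := restrict_eq_sum L K ψ ⟨⟨k, hkL⟩, Subgroup.mem_subgroupOf.2 k.2⟩
      show ψ.1 ((⟨⟨k, hkL⟩, Subgroup.mem_subgroupOf.2 k.2⟩ : K.subgroupOf L) : L) = 0
      rw [h2]
      refine Finset.sum_eq_zero fun φ _ => ?_
      by_cases hφ : classInner (fun k : K.subgroupOf L => ψ.1 k) φ.1 = 0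
      · rw [hφ, zero_mul]
      · obtain ⟨m, hm, h3⟩ := hconj ψ₀ hψ₀ ψ hψ φ₀ φ hφ₀ hφ
        rw [h3 _ (hLn m hm _ k.2) (Subgroup.mem_subgroupOf.2 (hKN m hm _ k.2))]
        have h4 := hk m hm (hKN m hm _ k.2)
        have h5 : φ₀.1 (e.symm ⟨m * (k : G) * m⁻¹, hKN m hm _ k.2⟩) = 0 := h4
        have h6 : e.symm ⟨m * (k : G) * m⁻¹, hKN m hm _ k.2⟩ =
            ⟨⟨m * (k : G) * m⁻¹, hLn m hm _ k.2⟩, Subgroup.mem_subgroupOf.2 (hKN m hm _ k.2)⟩ := by
          rw [MulEquiv.symm_apply_eq]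
          rfl
        rw [h6] at h5
        rw [h5, mul_zero]
    apply h0 k k.2
    rw [hval k k.2 hkL]
    exact Finset.sum_eq_zero fun ψ hψ => by rw [h1 ψ hψ, mul_zero]

/-- **Constancy on `y K`.** -/
theorem kconst (hab : (R : Subgroup G) ≤ Subgroup.centralizer ((R : Subgroup G) : Set G))
    (hy : y ∈ R)
    (hC : Subgroup.centralizer ({y} : Set G) = Subgroup.centralizer ((R : Subgroup G) : Set G))
    (K : Subgroup G) (hKC : K ≤ Subgroup.centralizer ((R : Subgroup G) : Set G))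
    (hKr : ¬ r ∣ Nat.card K)
    (hKN : ∀ n ∈ Subgroup.normalizer ((R : Subgroup G) : Set G), ∀ k ∈ K, n * k * n⁻¹ ∈ K)
    (hZ : ∀ φ : K → ℂ, IsIrrCharacter K φ → (∃ k, φ k ≠ 1) → ∃ k : K,
      ∀ n ∈ Subgroup.normalizer ((R : Subgroup G) : Set G), ∀ h : n * (k : G) * n⁻¹ ∈ K,
        φ ⟨n * (k : G) * n⁻¹, h⟩ = 0)
    (χ : IrrCharacter G) (h0 : ∀ k ∈ K, (χ : G → ℂ) (y * k) ≠ 0) :
    ∀ k ∈ K, (χ : G → ℂ) (y * k) = (χ : G → ℂ) y := by
  classical
  obtain ⟨M, hM⟩ := Cfsg.Agent.Blocks.ExistsModular.exists_isPModular (Fact.out : r.Prime)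
  have : M.IsPrime := hM.2.1.isPrime
  have hKL : K ≤ Subgroup.centralizer ({y} : Set G) := by rw [hC]; exact hKC
  have habL : (R : Subgroup G) ≤ Subgroup.centralizer ({y} : Set G) := by rw [hC]; exact hab
  have hfin := Core.finite_irr (G := Subgroup.centralizer ({y} : Set G))
  have : Fintype (IrrCharacter (Subgroup.centralizer ({y} : Set G))) := Fintype.ofFinite _
  have hyk : ∃ k : ℕ, orderOf y = r ^ k := by
    obtain ⟨k, hk⟩ := IsPGroup.iff_orderOf.mp R.isPGroup' ⟨y, hy⟩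
    exact ⟨k, by rw [← hk, Subgroup.orderOf_mk]⟩
  have hB : IsPBlock M (blockOf M χ.1) := ⟨χ, rfl⟩
  obtain ⟨S, hS⟩ : ∃ S : Finset (IrrCharacter (Subgroup.centralizer ({y} : Set G))),
      ∀ ψ, ψ ∈ S ↔ IsInducedBlock M (Subgroup.centralizer ({y} : Set G)) (blockOf M ψ.1)
        (blockOf M χ.1) :=
    ⟨Finset.univ.filter fun ψ => IsInducedBlock M (Subgroup.centralizer ({y} : Set G))
      (blockOf M ψ.1) (blockOf M χ.1), fun ψ => by simp⟩
  have hmain := const_of_conj (Subgroup.centralizer ({y} : Set G)) K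
    (Subgroup.normalizer ((R : Subgroup G) : Set G) : Set G) hKL
    (fun n hn => hKN n hn) S (fun ψ => classInner (lf y χ) ψ.1) (fun g => (χ : G → ℂ) (y * g))
    (fun k hkK hk => by
      refine apply_eq_sum_induced hM hyk hB (mem_blockOf_self χ) S hS ⟨k, hk⟩ ?_
      intro h
      apply hKr
      refine dvd_trans h ?_
      have h1 := orderOf_dvd_natCard (⟨k, hkK⟩ : K)
      rwa [Subgroup.orderOf_mk] at h1 ⊢)
    (fun ψ₀ h₀ ψ h₁ φ₀ φ hφ₀ hφ => constituents_conj R hM _ hC habL K hKL hKr hKN hB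
      ((hS ψ₀).1 h₀) ((hS ψ).1 h₁) hφ₀ hφ)
    (fun φ hφ h => hZ φ hφ h) h0
  intro k hk
  have h1 := hmain k hk
  simp only [mul_one] at h1
  exact h1

/-- A nonprincipal irreducible character of a perfect group has a zero. -/
theorem exists_zero_of_perfect {K : Type u} [Group K] [Finite K] (hK : commutator K = ⊤) {φ : K → ℂ}
    (hφ : IsIrrCharacter K φ) (h1 : ∃ k, φ k ≠ 1) : ∃ k, φ k = 0 := by
  obtain ⟨k₀, hk₀⟩ := h1
  obtain ⟨d, hd0, hd⟩ := Core.isIrr_apply_one hφ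
  have hd1 : d ≠ 1 := by
    rintro rfl
    apply hk₀
    exact Cfsg.Agent.H679.linear_apply_eq_one hφ (by rw [hd, Nat.cast_one]) (by rw [hK]; trivial)
  obtain ⟨n, ρ, hρ, rfl⟩ := hφ
  obtain ⟨g, hg⟩ := Cfsg.Agent.S0191.result ρ (by
    have h2 : ρ.character 1 = (Module.finrank ℂ (Fin n → ℂ) : ℂ) := ρ.char_one
    rw [h2] at hd
    have h3 : Module.finrank ℂ (Fin n → ℂ) = d := by exact_mod_cast hd
    rw [h3]
    omega)
  exact ⟨g, hg⟩

/-- **Constancy on `y K`**, `K` perfect, `N_G(R)` acting on `K` by inner automorphisms. -/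
theorem kconst_perfect (hab : (R : Subgroup G) ≤ Subgroup.centralizer ((R : Subgroup G) : Set G))
    (hy : y ∈ R)
    (hC : Subgroup.centralizer ({y} : Set G) ≤ Subgroup.centralizer ((R : Subgroup G) : Set G))
    (K : Subgroup G) (hKC : K ≤ Subgroup.centralizer ((R : Subgroup G) : Set G))
    (hKr : ¬ r ∣ Nat.card K) (hKp : commutator K = ⊤)
    (hKN : ∀ n ∈ Subgroup.normalizer ((R : Subgroup G) : Set G), ∃ c ∈ K, ∀ k ∈ K,
      n * k * n⁻¹ = c * k * c⁻¹)
    (χ : IrrCharacter G) (h0 : ∀ k ∈ K, (χ : G → ℂ) (y * k) ≠ 0) :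
    ∀ k ∈ K, (χ : G → ℂ) (y * k) = (χ : G → ℂ) y := by
  have hC' : Subgroup.centralizer ({y} : Set G) =
      Subgroup.centralizer ((R : Subgroup G) : Set G) := by
    apply le_antisymm hC
    apply Subgroup.centralizer_le
    rw [Set.singleton_subset_iff]
    exact hy
  refine kconst R hab hy hC' K hKC hKr ?_ ?_ χ h0
  · intro n hn k hk
    obtain ⟨c, hc, h1⟩ := hKN n hn
    rw [h1 k hk]
    exact mul_mem (mul_mem hc hk) (inv_mem hc)
  · intro φ hφ h1
    obtain ⟨k, hk⟩ := exists_zero_of_perfect hKp hφ h1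
    refine ⟨k, fun n hn h => ?_⟩
    obtain ⟨c, hc, h2⟩ := hKN n hn
    have h3 : (⟨n * (k : G) * n⁻¹, h⟩ : K) = ⟨c, hc⟩ * k * ⟨c, hc⟩⁻¹ := Subtype.ext (h2 k k.2)
    rw [h3, irr_conj hφ, hk]

end Main

end Cfsg.Agent.H695.OneZero
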