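import Cfsg.Agent.H695.OneZero.RankOne
import Cfsg.Agent.H448.Van.Rows

/-!
# S4842: the row `E₈`

`none_E8_of` : no irreducible character of the simple group `E₈(q)` vanishes on exactly one class, given `Kaw p G`
and the configurations `RankOneAt` for the primes of order `7a`.
-/

set_option autoImplicit false

namespace Cfsg.Agent.H695.OneZero

open Cfsg Cfsg.Lie Cfsg.Agent.Characters Finset Cfsg.Agent.H730.OZ Cfsg.Agent.H448.Van

universe u

/-- **Closing criterion** for one character.  `v` is the exponent of `p` in the group order. -/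
theorem none_of_sum {G : Type u} [Group G] [Finite G] (hs : IsSimpleGroup G) {p : ℕ} (hp : p.Prime)
    {v : ℕ} (hv : (Nat.card G).factorization p = v) (hv0 : v ≠ 0) (hK : Kaw p G)
    (h0 : ¬ p ^ (2 * v) - 1 ∣ Nat.card G) {χ : G → ℂ} (hχ : IsIrrCharacter G χ) (hz : OneZero χ)
    (hmid : ∀ (m : ℕ) (e : ℤ), (e = 1 ∨ e = -1) → 0 < m → m < 2 * v →
      ∑ᶠ u ∈ pSet p G, χ u = (e : ℂ) * (p : ℂ) ^ m * χ 1 → False) : False := by
  classical
  have := Fintype.ofFinite G
  have hd : ((charDegree χ : ℕ) : ℂ) = χ 1 := H686.CharKit.charDegree_cast (Core.isIrr_isCharacter hχ)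
  have hd0 : 0 < charDegree χ := H686.CharKit.charDegree_pos ⟨χ, hχ⟩
  have hpG : p ∣ Nat.card G := by
    by_contra h
    rw [Nat.factorization_eq_zero_of_not_dvd h] at hv
    exact hv0 hv.symm
  obtain ⟨m, e, he, hsum⟩ := hK.sum χ hχ
  obtain ⟨hmle, hmtop⟩ := hK.top hp hχ he hsum
  rw [hv] at hmle hmtop
  rcases Nat.eq_zero_or_pos m with hm0 | hm0
  · -- `m = 0`
    refine h0 ?_
    have h1 := OneZero.dvd_of_degree hp hpG hχ hz ?_
    · rwa [hK.card, hv] at h1
    · obtain ⟨z, hzz⟩ := frob hp hχ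
      rw [hsum, hm0, pow_zero, mul_one, ← hd] at hzz
      have h2 : e * (charDegree χ : ℤ) = ((p ^ (Nat.card G).factorization p : ℕ) : ℤ) * z := by
        exact_mod_cast hzz
      have h3 : ((p ^ (Nat.card G).factorization p : ℕ) : ℤ) ∣ (charDegree χ : ℤ) := by
        rcases he with rfl | rfl
        · exact ⟨z, by rw [← h2, one_mul]⟩
        · exact ⟨-z, by rw [mul_neg, ← h2]; ring⟩
      exact_mod_cast h3
  rcases Nat.lt_or_ge m (2 * v) with hlt | hge
  · exact hmid m e he hm0 hlt hsum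
  · -- `m = 2 v`
    have hall := hmtop (le_antisymm hmle hge)
    obtain ⟨u, hu⟩ := @exists_prime_orderOf_dvd_card' G _ _ p ⟨hp⟩ hpG
    have hu1 : χ u = χ 1 := hall u ⟨1, by rw [hu, pow_one]⟩
    set K := H686.CharKit.chKer (⟨χ, hχ⟩ : IrrCharacter G) with hKdef
    have huK : u ∈ K := H686.CharKit.mem_chKer.2 hu1
    have hKtop : K = ⊤ := by
      rcases hs.eq_bot_or_eq_top_of_normal K inferInstance with h | h
      · exfalso
        rw [h, Subgroup.mem_bot] at huK
        rw [huK, orderOf_one] at hu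
        exact hp.one_lt.ne hu
      · exact h
    obtain ⟨x, hx0, -⟩ := hz
    have hxK : x ∈ K := by rw [hKtop]; exact Subgroup.mem_top _
    have hx1 : χ x = χ 1 := H686.CharKit.mem_chKer.1 hxK
    rw [hx0, ← hd] at hx1
    have : (charDegree χ : ℂ) ≠ 0 := by exact_mod_cast hd0.ne'
    exact this hx1.symm

/-- The arithmetic of the middle case. -/
theorem mid_seven {p a r : ℕ} (ha : 0 < a) (hr : r.Prime)
    (hord : orderOf (p : ZMod r) = a * 7)
    (h : (r : ℤ) ∣ 1 * p ^ (a * 120) - (p ^ (2 * (120 * a)) : ℕ) ∨ (r : ℤ) ∣ 1 * p ^ (a * 120) + (p ^ a : ℕ)) :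
    False := by
  have : Fact r.Prime := ⟨hr⟩
  have hp0 : (p : ZMod r) ≠ 0 := by
    intro h0
    rw [h0] at hord
    have h4 : orderOf (0 : ZMod r) = 0 := orderOf_eq_zero_iff'.2 fun n hn h => by
      rw [zero_pow hn.ne'] at h
      exact zero_ne_one h
    omega
  have h7 : ((p : ZMod r) ^ a) ^ 7 = 1 := by rw [← pow_mul, ← hord, pow_orderOf_eq_one]
  obtain ⟨x, hx⟩ : ∃ x : ZMod r, x = (p : ZMod r) ^ a := ⟨_, rfl⟩
  rw [← hx] at h7
  have hx0 : x ≠ 0 := hx ▸ pow_ne_zero _ hp0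
  have hx1 : x ≠ 1 := by
    intro h1
    rw [hx] at h1
    have h2 : orderOf (p : ZMod r) ∣ a := orderOf_dvd_of_pow_eq_one h1
    rw [hord] at h2
    have := Nat.le_of_dvd ha h2
    omega
  have h120 : (p : ZMod r) ^ (a * 120) = x := by
    rw [pow_mul, ← hx]
    calc x ^ 120 = (x ^ 7) ^ 17 * x := by ring
      _ = x := by rw [h7, one_pow, one_mul]
  have h240 : (p : ZMod r) ^ (2 * (120 * a)) = x ^ 2 := by
    rw [show 2 * (120 * a) = a * 240 by ring, pow_mul, ← hx]
    calc x ^ 240 = (x ^ 7) ^ 34 * x ^ 2 := by ring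
      _ = x ^ 2 := by rw [h7, one_pow, one_mul]
  rcases h with h | h
  · have h1 := (ZMod.intCast_zmod_eq_zero_iff_dvd _ r).2 h
    push_cast at h1
    rw [h120, h240, one_mul] at h1
    have h2 : x * (x - 1) = 0 := by linear_combination -h1
    rcases mul_eq_zero.1 h2 with h3 | h3
    · exact hx0 h3
    · exact hx1 (sub_eq_zero.1 h3)
  · have h1 := (ZMod.intCast_zmod_eq_zero_iff_dvd _ r).2 h
    push_cast at h1
    rw [h120, ← hx, one_mul, ← two_mul] at h1
    rcases mul_eq_zero.1 h1 with h3 | h3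
    · -- `r = 2`
      have h4 : ((2 : ℕ) : ZMod r) = 0 := by exact_mod_cast h3
      rw [ZMod.natCast_eq_zero_iff] at h4
      have h5 : r = 2 := (Nat.prime_dvd_prime_iff_eq hr Nat.prime_two).1 h4
      have h6 : orderOf (p : ZMod r) ∣ r - 1 :=
        orderOf_dvd_of_pow_eq_one (ZMod.pow_card_sub_one_eq_one hp0)
      rw [hord, h5] at h6
      have := Nat.le_of_dvd (by norm_num) h6
      omega
    · exact hx0 h3

variable {F : Type u} [Field F] [Fintype F] {p a : ℕ}

/-- **`E₈(q)`** -/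
theorem none_E8_of (hs : IsSimpleGroup ↥(chevE8.group F)) (hp : p.Prime) (ha : 0 < a)
    (hF : Fintype.card F = p ^ a) (hK : Kaw p ↥(chevE8.group F))
    (hgeo : ∃ r, r.Prime ∧ orderOf (p : ZMod r) = a * 7 ∧ RankOneAt ↥(chevE8.group F) p r (p ^ a)) :
    NoOne ↥(chevE8.group F) := by
  intro χ hχ hz
  have hG := Cfsg.Agent.S1065.result hF
  have hL : (([2, 8, 12, 14, 18, 20, 24, 30] : List ℕ).map fun d => (p ^ a) ^ d - 1).prod =
      ((p ^ a) ^ 2 - 1) * ((p ^ a) ^ 8 - 1) * ((p ^ a) ^ 12 - 1) * ((p ^ a) ^ 14 - 1) * ((p ^ a) ^ 18 - 1) *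
      ((p ^ a) ^ 20 - 1) * ((p ^ a) ^ 24 - 1) * ((p ^ a) ^ 30 - 1) := by
    simp only [List.map_cons, List.map_nil, List.prod_cons, List.prod_nil, mul_one, mul_assoc]
  have hG' : 1 * Nat.card ↥(chevE8.group F) =
      p ^ (120 * a) * (([2, 8, 12, 14, 18, 20, 24, 30] : List ℕ).map fun d => (p ^ a) ^ d - 1).prod := by
    rw [one_mul, hG, hL]
    simp only [← pow_mul]
    rw [mul_comm a 120]
    ring
  have hv : (Nat.card ↥(chevE8.group F)).factorization p = 120 * a :=
    fact_of hp (fun h => hp.one_lt.ne' (Nat.dvd_one.1 h))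
      (not_dvd_prod hp ha (fun d hd => by simp at hd; omega)) Nat.card_pos.ne' hG'
  obtain ⟨r, hr, hro⟩ := good_E8 (m := 15) hp ha hF (Or.inl rfl)
  obtain ⟨s, hs', hso⟩ := good_E8 (m := 20) hp ha hF (Or.inr (Or.inl rfl))
  obtain ⟨t, ht, hto⟩ := good_E8 (m := 24) hp ha hF (Or.inr (Or.inr (Or.inl rfl)))
  refine none_of_sum hs hp hv (by omega) hK ?_ hχ hz ?_
  · rw [show 2 * (120 * a) = a * 240 by ring]
    refine not_dvd_card hp ha (by norm_num) (N := 120 * a) (L := [2, 8, 12, 14, 18, 20, 24, 30]) ?_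
      (fun d hd => by simp at hd; omega)
    rw [← hG', one_mul]
  · intro m e he hm hm2 hsum
    have hc : ∀ r k : ℕ, Cong p r k ↥(chevE8.group F) → (r : ℤ) ∣ e * (p : ℤ) ^ m - (p : ℤ) ^ k :=
      fun r k hrk => hrk χ hχ hz m e he hsum
    obtain ⟨h1, h2, h3⟩ := ords hp hr hro (by omega) hc he
    obtain ⟨h4, h5, h6⟩ := ords hp hs' hso (by omega) hc he
    obtain ⟨h7, h8, h9⟩ := ords hp ht hto (by omega) hc he
    obtain ⟨rfl, rfl⟩ := mid_E8 ha hm (by omega) h1 h4 h7 h2 (fun h => ⟨h3 h, h6 h, h9 h⟩) he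
    obtain ⟨w, hw, hwo, hgeo⟩ := hgeo
    have hwp : w ≠ p := by
      rintro rfl
      have h10 : (w : ZMod w) = 0 := ZMod.natCast_self w
      have : Fact w.Prime := ⟨hw⟩
      rw [h10] at hwo
      have h4 : orderOf (0 : ZMod w) = 0 := orderOf_eq_zero_iff'.2 fun n hn h => by
        rw [zero_pow hn.ne'] at h
        exact zero_ne_one h
      omega
    have h10 := hgeo.dvd hp hw hwp (Nat.one_lt_pow ha.ne' hp.one_lt) hχ hz hsum
    rw [hK.card, hv] at h10
    exact mid_seven ha hw hwo (by exact_mod_cast h10)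

/-- **`E₈(q)`**, from the configurations for all primes of order `7a`. -/
theorem none_E8_of' (hs : IsSimpleGroup ↥(chevE8.group F)) (hp : p.Prime) (ha : 0 < a)
    (hF : Fintype.card F = p ^ a) (hK : Kaw p ↥(chevE8.group F))
    (hgeo : ∀ r : ℕ, r.Prime → orderOf (p : ZMod r) = 7 * a → RankOneAt ↥(chevE8.group F) p r (p ^ a)) :
    NoOne ↥(chevE8.group F) := by
  obtain ⟨r, hr, ho⟩ := Cfsg.Agent.Lib.Zsigmondy.exists_prime_orderOf (a := p) (n := 7 * a) hp.two_le
    (by omega) (by omega) (by omega)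
  exact none_E8_of hs hp ha hF hK ⟨r, hr, by rw [ho, mul_comm], hgeo r hr ho⟩

end Cfsg.Agent.H695.OneZero
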