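import Cfsg.Agent.H695.OneZero.RankOnePel
import Cfsg.Agent.H695.OneZero.RankOneDef
import Cfsg.Agent.H732.VZ.KC

/-!
# The congruence from an element whose centralizer is of rank one

`RankOneAt.dvd` : `G` finite with a configuration `RankOneAt G p r q` (`H695.OneZero.RankOneDef`), `χ` an
irreducible character with exactly one class of zeros, `∑ χ = e p^m χ(1)` over the `p`-elements:
`r` divides `e p^m - #{p-elements}` or `e p^m + q`.
-/

set_option autoImplicit false
set_option linter.unusedSectionVars false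

namespace Cfsg.Agent.H695.OneZero

open Cfsg Cfsg.Agent.Characters Finset Cfsg.Agent.Blocks.Basic

universe u

section Const

variable {G : Type u} [Group G] [Fintype G] {r : ℕ} [Fact r.Prime]

/-- All constituents of `k ↦ χ (y k)` on `K` are conjugate under the normalizer of `R`. -/
theorem constituents (R : Sylow r G) {y : G}
    (hab : (R : Subgroup G) ≤ Subgroup.centralizer ((R : Subgroup G) : Set G))
    (hy : y ∈ R)
    (hC : Subgroup.centralizer ({y} : Set G) = Subgroup.centralizer ((R : Subgroup G) : Set G))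
    (K : Subgroup G) [Fintype K] (hKC : K ≤ Subgroup.centralizer ((R : Subgroup G) : Set G))
    (hKr : ¬ r ∣ Nat.card K)
    (hKN : ∀ n ∈ Subgroup.normalizer ((R : Subgroup G) : Set G), ∀ k ∈ K, n * k * n⁻¹ ∈ K)
    (χ : IrrCharacter G) {φ φ' : IrrCharacter K}
    (h : classInner (fun k : K => (χ : G → ℂ) (y * k)) φ.1 ≠ 0)
    (h' : classInner (fun k : K => (χ : G → ℂ) (y * k)) φ'.1 ≠ 0) :
    ∃ m, ∃ hm : m ∈ Subgroup.normalizer ((R : Subgroup G) : Set G), ∀ k : K,
      φ'.1 k = φ.1 ⟨m * (k : G) * m⁻¹, hKN m hm k k.2⟩ := by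
  classical
  obtain ⟨M, hM⟩ := Cfsg.Agent.Blocks.ExistsModular.exists_isPModular (Fact.out : r.Prime)
  have : M.IsPrime := hM.2.1.isPrime
  have hKL : K ≤ Subgroup.centralizer ({y} : Set G) := by rw [hC]; exact hKC
  have habL : (R : Subgroup G) ≤ Subgroup.centralizer ({y} : Set G) := by rw [hC]; exact hab
  have hfin := Core.finite_irr (G := Subgroup.centralizer ({y} : Set G))
  have : Fintype (IrrCharacter (Subgroup.centralizer ({y} : Set G))) := Fintype.ofFinite _
  have hyk : ∃ k : ℕ, orderOf y = r ^ k := by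
    obtain ⟨k, hk⟩ := IsPGroup.iff_orderOf.mp R.isPGroup' ⟨y, hy⟩
    exact ⟨k, by rw [← hk, Subgroup.orderOf_mk]⟩
  have hB : IsPBlock M (blockOf M χ.1) := ⟨χ, rfl⟩
  obtain ⟨S, hS⟩ : ∃ S : Finset (IrrCharacter (Subgroup.centralizer ({y} : Set G))),
      ∀ ψ, ψ ∈ S ↔ IsInducedBlock M (Subgroup.centralizer ({y} : Set G)) (blockOf M ψ.1)
        (blockOf M χ.1) :=
    ⟨Finset.univ.filter fun ψ => IsInducedBlock M (Subgroup.centralizer ({y} : Set G))
      (blockOf M ψ.1) (blockOf M χ.1), fun ψ => by simp⟩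
  obtain ⟨a, hval⟩ : ∃ a : IrrCharacter (Subgroup.centralizer ({y} : Set G)) → ℂ,
      ∀ k : K, (χ : G → ℂ) (y * k) = ∑ ψ ∈ S, a ψ * ψ.1 ⟨(k : G), hKL k.2⟩ := by
    refine ⟨fun ψ => classInner (lf y χ) ψ.1, fun k => ?_⟩
    refine apply_eq_sum_induced hM hyk hB (mem_blockOf_self χ) S hS ⟨k, hKL k.2⟩ ?_
    intro h
    apply hKr
    refine dvd_trans h ?_
    rw [Subgroup.orderOf_mk, Subgroup.orderOf_coe]
    exact orderOf_dvd_natCard k
  let e : K.subgroupOf (Subgroup.centralizer ({y} : Set G)) ≃* K := Subgroup.subgroupOfEquivOfLe hKL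
  have hft : Fintype (K.subgroupOf (Subgroup.centralizer ({y} : Set G))) :=
    Fintype.ofEquiv K e.symm.toEquiv
  -- a member of `S` with the constituent
  have hex : ∀ φ : IrrCharacter K, classInner (fun k : K => (χ : G → ℂ) (y * k)) φ.1 ≠ 0 →
      ∃ ψ ∈ S, classInner (fun k : K.subgroupOf (Subgroup.centralizer ({y} : Set G)) => ψ.1 k)
        (φ.1 ∘ e) ≠ 0 := by
    intro φ hφ
    by_contra hne
    push Not at hne
    apply hφ
    have h1 : classInner (fun k : K => (χ : G → ℂ) (y * k)) φ.1 =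
        ∑ ψ ∈ S, a ψ * classInner (fun k : K => ψ.1 ⟨(k : G), hKL k.2⟩) φ.1 := by
      unfold classInner
      have h5 : ∀ k : K, (χ : G → ℂ) (y * k) * (starRingEnd ℂ) (φ.1 k) =
          ∑ ψ ∈ S, a ψ * ψ.1 ⟨(k : G), hKL k.2⟩ * (starRingEnd ℂ) (φ.1 k) := fun k => by
        rw [hval k, Finset.sum_mul]
      rw [Finset.sum_congr rfl fun k _ => h5 k, Finset.sum_comm, Finset.mul_sum]
      refine Finset.sum_congr rfl fun ψ _ => ?_
      rw [Finset.mul_sum, Finset.mul_sum, Finset.mul_sum]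
      refine Finset.sum_congr rfl fun k _ => ?_
      ring
    rw [h1]
    refine Finset.sum_eq_zero fun ψ hψ => ?_
    have h2 := Clifford.classInner_comp_mulEquiv e (fun k : K => ψ.1 ⟨(k : G), hKL k.2⟩) φ.1
    have h3 := hne ψ hψ
    rw [← h2]
    rw [show ((fun k : K => ψ.1 ⟨(k : G), hKL k.2⟩) ∘ e) =
      (fun k : K.subgroupOf (Subgroup.centralizer ({y} : Set G)) => ψ.1 k) from rfl, h3, mul_zero]
  obtain ⟨ψ₀, hψ₀, h1⟩ := hex φ h
  obtain ⟨ψ, hψ, h2⟩ := hex φ' h'
  obtain ⟨m, hm, hmk⟩ := constituents_conj R hM _ hC habL K hKL hKr hKN hB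
      ((hS ψ₀).1 hψ₀) ((hS ψ).1 hψ)
      (φ₀ := ⟨φ.1 ∘ e, Core.isIrr_comp e.toMonoidHom e.surjective φ.2⟩)
      (φ := ⟨φ'.1 ∘ e, Core.isIrr_comp e.toMonoidHom e.surjective φ'.2⟩) h1 h2
  refine ⟨m, hm, fun k => ?_⟩
  have h3 := hmk (e.symm k) (hKL (hKN m hm k k.2)) (Subgroup.mem_subgroupOf.2 (hKN m hm k k.2))
  have h4 : φ'.1 (e (e.symm k)) = φ'.1 k := by rw [MulEquiv.apply_symm_apply]
  rw [← h4]
  exact h3

end Const

variable {G : Type u} [Group G] {p r q : ℕ} {y : G} {R K U TK TC : Subgroup G} {n0 : G}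

namespace RankOne

variable (h : RankOne p r q y R K U TK TC n0)

include h

theorem conj_mem {c : G} (hc : Commute c y) : ∃ k' ∈ K, ∃ t ∈ TC, c = k' * t ∧
    ∀ k ∈ K, c * k * c⁻¹ = k' * (t * k * t⁻¹) * k'⁻¹ := by
  obtain ⟨k', hk', t, ht, rfl⟩ := h.CK c hc
  exact ⟨k', hk', t, ht, rfl, fun k _ => by group⟩

theorem norm_mem {n : G} (hn : n ∈ Subgroup.normalizer (R : Set G)) {k : G} (hk : k ∈ K) :
    n * k * n⁻¹ ∈ K := by
  obtain ⟨c, hc, h1⟩ := h.NK n hn
  obtain ⟨k', hk', t, ht, -, h2⟩ := h.conj_mem hc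
  rw [h1 k hk, h2 k hk]
  exact mul_mem (mul_mem hk' (h.Kn t ht k hk)) (inv_mem hk')

theorem ab : R ≤ Subgroup.centralizer (R : Set G) := by
  intro a ha
  rw [Subgroup.mem_centralizer_iff]
  intro b hb
  have := h.cyc
  have h1 : (⟨b, hb⟩ : R) * ⟨a, ha⟩ = ⟨a, ha⟩ * ⟨b, hb⟩ := by
    have := h.cyc.commutative
    exact Std.Commutative.comm _ _
  exact congrArg Subtype.val h1

theorem centralizer_eq :
    Subgroup.centralizer ({y} : Set G) = Subgroup.centralizer (R : Set G) := by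
  apply le_antisymm
  · intro g hg
    rw [Subgroup.mem_centralizer_singleton_iff] at hg
    rw [Subgroup.mem_centralizer_iff]
    intro x hx
    exact (h.cent g hg x hx).symm
  · apply Subgroup.centralizer_le
    rw [Set.singleton_subset_iff]
    exact h.mem

theorem K_le : K ≤ Subgroup.centralizer (R : Set G) := by
  rw [← h.centralizer_eq]
  intro k hk
  rw [Subgroup.mem_centralizer_singleton_iff]
  exact h.KC k hk


omit h in
theorem pelt {p : ℕ} (hp : p.Prime) {U : Subgroup G} (hU : IsPGroup p U) {x : G} (hx : x ∈ U) :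
    ∃ k, orderOf x = p ^ k := by
  obtain ⟨k, hk⟩ := hU ⟨x, hx⟩
  have h3 : orderOf x ∣ p ^ k := orderOf_dvd_of_pow_eq_one (by
    have := congrArg Subtype.val hk
    simpa using this)
  obtain ⟨j, -, hj⟩ := (Nat.dvd_prime_pow hp).1 h3
  exact ⟨j, hj⟩

variable [Finite G]

theorem U_inf (hp : p.Prime) {x : G} (hx : x ∈ U) (hx' : x ∈ TC) : x = 1 := by
  obtain ⟨k, hk⟩ := pelt hp h.pU hx
  have h2 : orderOf x ∣ Nat.card TC := by
    have := orderOf_dvd_natCard (⟨x, hx'⟩ : TC)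
    rwa [Subgroup.orderOf_mk] at this
  rw [← orderOf_eq_one_iff]
  refine Nat.Coprime.eq_one_of_dvd ?_ h2
  rw [hk]
  exact Nat.Coprime.pow_left _ ((Nat.Prime.coprime_iff_not_dvd hp).2 h.TCp)

theorem n0T' {t : G} (ht : t ∈ TK) : n0⁻¹ * t * n0 ∈ TK := by
  let f : TK → TK := fun t => ⟨n0 * t * n0⁻¹, h.n0T t t.2⟩
  have hf : Function.Injective f := by
    intro a b hab
    have h1 : n0 * (a : G) * n0⁻¹ = n0 * b * n0⁻¹ := congrArg Subtype.val hab
    exact Subtype.ext (mul_left_cancel (mul_right_cancel h1))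
  obtain ⟨s, hs⟩ := (Finite.injective_iff_surjective.1 hf) ⟨t, ht⟩
  have h1 : n0 * (s : G) * n0⁻¹ = t := congrArg Subtype.val hs
  have h2 : n0⁻¹ * t * n0 = s := by rw [← h1]; group
  rw [h2]
  exact s.2

/-- The group `K` is of rank one. -/
theorem rk1 (hp : p.Prime) (hq : 1 < q) :
    Rk1 (U.subgroupOf K) (TK.subgroupOf K) (⟨n0, h.n0K⟩ : K) where
  TU := by
    intro t ht u hu
    rw [Subgroup.mem_subgroupOf] at ht hu ⊢
    exact h.TCU t (h.TKC ht) u hu
  comm := by
    intro s hs t ht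
    rw [Subgroup.mem_subgroupOf] at hs ht
    exact Subtype.ext (h.TCT s (h.TKC hs) t ht)
  bru := by
    intro k
    rcases h.bru k k.2 with ⟨u, hu, t, ht, he⟩ | ⟨u, hu, t, ht, v, hv, he⟩
    · exact Or.inl ⟨⟨u, h.UK hu⟩, hu, ⟨t, h.TKK ht⟩, ht, Subtype.ext he⟩
    · exact Or.inr ⟨⟨u, h.UK hu⟩, hu, ⟨t, h.TKK ht⟩, ht, ⟨v, h.UK hv⟩, hv, Subtype.ext he⟩
  disj := by
    intro u hu v hv t ht he
    exact Subtype.ext (h.disj u hu v hv t ht (congrArg Subtype.val he))
  n0T := by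
    intro t ht
    exact h.n0T' ht
  UT := by
    intro u hu hu'
    exact Subtype.ext (h.U_inf hp hu (h.TKC hu'))
  U1 := by
    have h1 : 1 < Nat.card U := by rw [h.cardU]; exact hq
    have h2 : Nontrivial U := Finite.one_lt_card_iff_nontrivial.1 h1
    obtain ⟨x, hx⟩ := exists_ne (1 : U)
    exact ⟨⟨x, h.UK x.2⟩, x.2, fun he => hx (Subtype.ext
      (show (x : G) = 1 from congrArg Subtype.val he))⟩

/-- The `p`-elements commuting with `y` are in `K`. -/
theorem mem_K (hp : p.Prime) {v : G} (hv : Commute v y) {k : ℕ} (hk : orderOf v = p ^ k) :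
    v ∈ K := by
  -- `v ^ n ∈ K (t ^ n)` for `v = k' t`
  obtain ⟨k', hk', t, ht, rfl⟩ := h.CK v hv
  have h1 : ∀ n : ℕ, ∃ x ∈ K, (k' * t) ^ n = x * t ^ n := by
    intro n
    induction n with
    | zero => exact ⟨1, one_mem _, by simp⟩
    | succ n ih =>
      obtain ⟨x, hx, he⟩ := ih
      refine ⟨x * (t ^ n * k' * (t ^ n)⁻¹), mul_mem hx (h.Kn _ (pow_mem ht n) k' hk'), ?_⟩
      rw [pow_succ, he, pow_succ]
      group
  obtain ⟨x, hx, he⟩ := h1 (Nat.card TC)
  have h2 : t ^ Nat.card TC = 1 :=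
    congrArg Subtype.val (pow_card_eq_one' (x := (⟨t, ht⟩ : TC)))
  rw [h2, mul_one] at he
  have hcop : Nat.Coprime (orderOf (k' * t)) (Nat.card TC) := by
    rw [hk]
    exact Nat.Coprime.pow_left _ ((Nat.Prime.coprime_iff_not_dvd hp).2 h.TCp)
  obtain ⟨m, hm1, hm2⟩ := Nat.chineseRemainder hcop 1 0
  obtain ⟨c, hc⟩ := (Nat.modEq_zero_iff_dvd).1 hm2
  have h3 : (k' * t) ^ m = k' * t := by
    conv_rhs => rw [← pow_one (k' * t)]
    exact pow_eq_pow_iff_modEq.2 hm1
  rw [← h3, hc, pow_mul, he]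
  exact pow_mem hx _

/-- **The dichotomy.** -/
theorem const_or (hp : p.Prime) (hr : r.Prime) (hq : 1 < q) (χ : IrrCharacter G)
    (h0 : ∀ k ∈ K, (χ : G → ℂ) (y * k) ≠ 0) :
    (∀ u ∈ U, (χ : G → ℂ) (y * u) = (χ : G → ℂ) y) ∨ ∑ᶠ u : U, (χ : G → ℂ) (y * u) = 0 := by
  classical
  have := Fintype.ofFinite G
  have : Fact r.Prime := ⟨hr⟩
  obtain ⟨R', hR'⟩ : ∃ R' : Sylow r G, (R' : Subgroup G) = R :=
    ⟨IsPGroup.toSylow h.pgr h.ind, rfl⟩
  have hfK : Fintype K := Fintype.ofFinite _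
  have hmain := (h.rk1 hp hq).main (fun k : K => (χ : G → ℂ) (y * k)) (by
      intro g k
      show (χ : G → ℂ) (y * ((k : G) * (g : G) * (k : G)⁻¹)) = (χ : G → ℂ) (y * (g : G))
      have h1 : y * ((k : G) * (g : G) * (k : G)⁻¹) = (k : G) * (y * (g : G)) * (k : G)⁻¹ := by
        have h2 : (k : G) * y = y * (k : G) := h.KC k k.2
        rw [← mul_assoc, ← mul_assoc, ← mul_assoc, h2]
      rw [h1]
      exact irr_conj χ.2 _ _) (fun k => h0 k k.2) (by
      intro φ φ' h1 h2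
      obtain ⟨m, hm, h3⟩ := constituents R' (y := y) (by rw [hR']; exact h.ab)
        (show y ∈ (R' : Subgroup G) by rw [hR']; exact h.mem) (by rw [hR']; exact h.centralizer_eq) K
        (by rw [hR']; exact h.K_le) h.Kr (by rw [hR']; exact fun n hn k hk => h.norm_mem hn hk) χ h1 h2
      rw [hR'] at hm
      obtain ⟨c, hc, h4⟩ := h.NK m hm
      obtain ⟨k', hk', t, ht, -, h5⟩ := h.conj_mem hc
      let α : K ≃* K :=
        { toFun := fun k => ⟨t * k * t⁻¹, h.Kn t ht k k.2⟩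
          invFun := fun k => ⟨t⁻¹ * k * t⁻¹⁻¹, h.Kn _ (inv_mem ht) k k.2⟩
          left_inv := fun k => Subtype.ext (by
            show t⁻¹ * (t * (k : G) * t⁻¹) * t⁻¹⁻¹ = k
            group)
          right_inv := fun k => Subtype.ext (by
            show t * (t⁻¹ * (k : G) * t⁻¹⁻¹) * t⁻¹ = k
            group)
          map_mul' := fun a b => Subtype.ext (by
            show t * ((a : G) * b) * t⁻¹ = t * a * t⁻¹ * (t * b * t⁻¹)
            group) }
      refine ⟨α, ?_, ?_, ?_, ?_⟩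
      · intro u hu
        exact h.TCU t ht u hu
      · intro s hs
        apply Subtype.ext
        show t * (s : G) * t⁻¹ = s
        rw [(h.TCT t ht s hs).eq, mul_inv_cancel_right]
      · intro k
        show (χ : G → ℂ) (y * (t * (k : G) * t⁻¹)) = (χ : G → ℂ) (y * (k : G))
        have h6 : y * (t * (k : G) * t⁻¹) = t * (y * (k : G)) * t⁻¹ := by
          have h7 : t * y = y * t := h.TCy t ht
          rw [← mul_assoc, ← mul_assoc, ← mul_assoc, h7]
        rw [h6]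
        exact irr_conj χ.2 _ _
      · intro k
        rw [h3 k]
        have h6 : ∀ hm' : m * (k : G) * m⁻¹ ∈ K,
            (⟨m * (k : G) * m⁻¹, hm'⟩ : K) = ⟨k', hk'⟩ * α k * ⟨k', hk'⟩⁻¹ := by
          intro hm'
          apply Subtype.ext
          show m * (k : G) * m⁻¹ = k' * (t * k * t⁻¹) * k'⁻¹
          rw [h4 k k.2, h5 k k.2]
        rw [h6]
        exact irr_conj φ.2 _ _)
  rcases hmain with h1 | h1
  · left
    intro u hu
    have h2 := h1 ⟨u, h.UK hu⟩ hu
    simp only [Subgroup.coe_one, mul_one] at h2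
    exact h2
  · right
    rw [finsum_eq_sum_of_fintype, ← h1]
    exact Fintype.sum_equiv (Subgroup.subgroupOfEquivOfLe h.UK).symm.toEquiv _ _ fun u => rfl

end RankOne

open H732.VZ (av av_coe av_mul_sub_mem int_mem_iff One) in
open CharactersDeep in
/-- The congruence for a general value of the sum over the centralizer. -/
theorem congr_gen {G : Type u} [Group G] [Fintype G] {r : ℕ} (hr : r.Prime) {z : G}
    (hz : orderOf z = r) (s : G → ℤ)
    (hs : ∀ g x : G, s (g * x * g⁻¹) = s x) (hsr : ∀ x, s x ≠ 0 → ¬ r ∣ orderOf x)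
    (χ : IrrCharacter G) {lam lam' : ℤ}
    (hlam : ∑ g, (s g : ℂ) * (χ : G → ℂ) g = lam * (χ : G → ℂ) 1) [DecidablePred (Commute z)]
    (hK : ∑ g ∈ univ.filter (Commute z), (s g : ℂ) * (χ : G → ℂ) (z * g) = lam' * (χ : G → ℂ) z)
    (hdeg : ¬ r ∣ charDegree (χ : G → ℂ)) : (r : ℤ) ∣ lam - lam' := by
  classical
  have : Fact r.Prime := ⟨hr⟩
  obtain ⟨M, hM', hrM⟩ := BrauerLocal.exists_maximal r hr
  have hM : M.IsPrime := hM'.isPrime
  have hP : IsPGroup r (Subgroup.zpowers z) := IsPGroup.of_card (n := 1) (by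
    rw [Nat.card_zpowers, hz, pow_one])
  obtain ⟨a, ha⟩ := Cfsg.Agent.Blocks.OrbitSum.sum_eq_sum_centralizer_add_smul (p := r)
    (Subgroup.zpowers z) hP (fun g => (s g : AlgInt) * av χ g) (fun u _ x => by
      rw [hs u x]
      congr 1
      exact Subtype.ext (Core.isIrr_isClassFunction χ.2 x u))
  have hfil : univ.filter (· ∈ Subgroup.centralizer ((Subgroup.zpowers z : Subgroup G) : Set G))
      = univ.filter (Commute z) := by
    ext x
    simp only [mem_filter, mem_univ, true_and]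
    rw [Subgroup.zpowers_eq_closure, Subgroup.centralizer_closure,
      Subgroup.mem_centralizer_singleton_iff]
    exact ⟨fun h => h.symm, fun h => h.symm⟩
  rw [hfil] at ha
  have h0 : ∑ g, (s g : AlgInt) * av χ g = (lam : AlgInt) * av χ 1 := by
    apply Subtype.ext
    push_cast
    exact hlam
  have h0' : ∑ g ∈ univ.filter (Commute z), (s g : AlgInt) * av χ (z * g) =
      (lam' : AlgInt) * av χ z := by
    apply Subtype.ext
    push_cast
    exact hK
  -- `χ z ≡ χ 1`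
  have hz1 : av χ z - av χ 1 ∈ M := by
    have := av_mul_sub_mem hr hM hrM χ hz (Commute.one_right z) (by
      rw [orderOf_one]
      exact fun h => hr.one_lt.ne' (Nat.dvd_one.1 h))
    rwa [mul_one] at this
  -- termwise congruence
  have hterm : ∀ g ∈ univ.filter (Commute z),
      (s g : AlgInt) * av χ g - (s g : AlgInt) * av χ (z * g) ∈ M := by
    intro g hg
    have hg' : Commute z g := (mem_filter.1 hg).2
    by_cases h : s g = 0
    · simp [h]
    have h1 := av_mul_sub_mem hr hM hrM χ hz hg' (hsr g h)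
    have h3 : av χ g - av χ (z * g) ∈ M := by
      have := M.neg_mem h1
      rwa [neg_sub] at this
    rw [← mul_sub]
    exact M.mul_mem_left _ h3
  have hsum : (∑ g ∈ univ.filter (Commute z), (s g : AlgInt) * av χ g)
      - (lam' : AlgInt) * av χ z ∈ M := by
    rw [← h0', ← Finset.sum_sub_distrib]
    exact M.sum_mem hterm
  have hfin : ((lam : AlgInt) - lam') * av χ 1 ∈ M := by
    rw [sub_mul, ← h0, ha]
    have : (∑ g ∈ univ.filter (Commute z), (s g : AlgInt) * av χ g) + r • a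
        - (lam' : AlgInt) * av χ 1
        = ((∑ g ∈ univ.filter (Commute z), (s g : AlgInt) * av χ g)
          - (lam' : AlgInt) * av χ z) + (r : AlgInt) * a + lam' * (av χ z - av χ 1) := by
      rw [nsmul_eq_mul]; ring
    rw [this]
    exact M.add_mem (M.add_mem hsum (M.mul_mem_right _ hrM)) (M.mul_mem_left _ hz1)
  have hdegM : av χ 1 ∉ M := by
    have h1 : av χ 1 = ((charDegree (χ : G → ℂ) : ℤ) : AlgInt) := by
      apply Subtype.ext
      push_cast
      exact (Cfsg.Agent.H686.CharKit.charDegree_irr χ).symm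
    rw [h1, int_mem_iff hr hM hrM]
    intro h
    exact hdeg (by exact_mod_cast h)
  have hlast := (hM.mem_or_mem hfin).resolve_right hdegM
  have hcast : (lam : AlgInt) - lam' = ((lam - lam' : ℤ) : AlgInt) := by
    push_cast
    rfl
  rwa [hcast, int_mem_iff hr hM hrM] at hlast

namespace RankOne

variable (h : RankOne p r q y R K U TK TC n0) [Finite G]

include h

/-- The sum over the `p`-elements commuting with `y` in the second case. -/
theorem sum_eq (hp : p.Prime) (hq : 1 < q) (χ : IrrCharacter G)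
    (h0 : ∑ᶠ u : U, (χ : G → ℂ) (y * u) = 0) (S : Finset G)
    (hS : ∀ v, v ∈ S ↔ Commute y v ∧ ∃ k, orderOf v = p ^ k) :
    ∑ v ∈ S, (χ : G → ℂ) (y * v) = -(q : ℂ) * (χ : G → ℂ) y := by
  classical
  have := Fintype.ofFinite G
  have hfK : Fintype K := Fintype.ofFinite _
  have hfU : Fintype U := Fintype.ofFinite _
  have e1 : U.subgroupOf K ≃* U := Subgroup.subgroupOfEquivOfLe h.UK
  have hU' : IsPGroup p (U.subgroupOf K) := h.pU.of_equiv e1.symm
  have e2 : TK.subgroupOf K ≃* TK := Subgroup.subgroupOfEquivOfLe h.TKK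
  have hT' : ¬ p ∣ Nat.card (TK.subgroupOf K) := by
    rw [Nat.card_congr e2.toEquiv]
    exact fun hd => h.TCp (hd.trans (Subgroup.card_dvd_of_le h.TKC))
  have hcl : ∀ x v : K, (χ : G → ℂ) (y * ((x * v * x⁻¹ : K) : G)) = (χ : G → ℂ) (y * (v : G)) := by
    intro k g
    show (χ : G → ℂ) (y * ((k : G) * (g : G) * (k : G)⁻¹)) = (χ : G → ℂ) (y * (g : G))
    have h1 : y * ((k : G) * (g : G) * (k : G)⁻¹) = (k : G) * (y * (g : G)) * (k : G)⁻¹ := by
      have h2 : (k : G) * y = y * (k : G) := h.KC k k.2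
      rw [← mul_assoc, ← mul_assoc, ← mul_assoc, h2]
    rw [h1]
    exact irr_conj χ.2 _ _
  have hmain := (h.rk1 hp hq).sum_pel hp hU' hT' (fun k : K => (χ : G → ℂ) (y * k)) hcl
    (univ.filter fun v : K => ∃ k, orderOf v = p ^ k) (fun v => by simp)
  have h1 : ∑ u : U.subgroupOf K, (χ : G → ℂ) (y * ((u : K) : G)) = 0 := by
    rw [← h0, finsum_eq_sum_of_fintype]
    exact (Fintype.sum_equiv (Subgroup.subgroupOfEquivOfLe h.UK).symm.toEquiv _ _ fun u => rfl).symm
  rw [h1, mul_zero, zero_sub, Nat.card_congr e1.toEquiv, h.cardU] at hmain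
  simp only [Subgroup.coe_one, mul_one] at hmain
  rw [neg_mul, ← hmain]
  refine Finset.sum_bij' (fun v hv => (⟨v, ?_⟩ : K)) (fun v _ => (v : G)) ?_ ?_ ?_ ?_ ?_
  · obtain ⟨h2, k, hk⟩ := (hS v).1 hv
    exact h.mem_K hp h2.symm hk
  · intro v hv
    obtain ⟨h2, k, hk⟩ := (hS v).1 hv
    rw [mem_filter]
    exact ⟨mem_univ _, k, by rw [Subgroup.orderOf_mk, hk]⟩
  · intro v hv
    obtain ⟨k, hk⟩ := (mem_filter.1 hv).2
    rw [hS]
    exact ⟨(h.KC v v.2).symm, k, by rw [Subgroup.orderOf_coe, hk]⟩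
  · intro v _
    rfl
  · intro v _
    rfl
  · intro v _
    rfl

end RankOne

open H732.VZ (One not_dvd_of_sylow ne_zero_of_not_isConj oneZero_iff basic) in
open H730.OZ (pSet OneZero) in
open H631.Kaw (pel mem_pel) in
/-- **The congruence.** -/
theorem RankOneAt.dvd [Finite G] (h : RankOneAt G p r q) (hp : p.Prime) (hr : r.Prime)
    (hrp : r ≠ p) (hq : 1 < q) {χ : G → ℂ} (hχ : IsIrrCharacter G χ) (hO : OneZero χ) {m : ℕ} {e : ℤ}
    (hs : ∑ᶠ u ∈ pSet p G, χ u = (e : ℂ) * (p : ℂ) ^ m * χ 1) :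
    (r : ℤ) ∣ e * p ^ m - (pSet p G).ncard ∨ (r : ℤ) ∣ e * p ^ m + q := by
  classical
  have := Fintype.ofFinite G
  have : Fact r.Prime := ⟨hr⟩
  obtain ⟨y, R, K, U, TK, TC, n0, h⟩ := h
  obtain ⟨x, hx⟩ := (oneZero_iff hχ).1 hO
  obtain ⟨j, hj, hnc⟩ := h.ncj
  have hrd : ¬ r ∣ charDegree χ := by
    refine not_dvd_of_sylow (IsPGroup.toSylow h.pgr h.ind) h.cyc h.ord h.mem ?_
      (Or.inr ⟨j, hj, hnc⟩) ⟨χ, hχ⟩ x hx
    exact h.centralizer_eq.le
  have h0 : ∀ k ∈ K, χ (y * k) ≠ 0 := by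
    intro k hk
    refine ne_zero_of_not_isConj hx hr h.ord hj hnc (h.KC k hk).symm ?_
    intro hd
    have h1 := orderOf_dvd_natCard (⟨k, hk⟩ : K)
    rw [Subgroup.orderOf_mk] at h1
    exact h.Kr (hd.trans h1)
  rcases h.const_or hp hr hq ⟨χ, hχ⟩ h0 with h1 | h1
  · left
    refine (basic hp hr hrp h.ord ⟨χ, hχ⟩ hrd ?_ hs).1
    rintro v hv ⟨k, hk⟩
    -- `v` is conjugate in `K` to an element of `U`
    have hvK := h.mem_K hp hv.symm hk
    have e1 : U.subgroupOf K ≃* U := Subgroup.subgroupOfEquivOfLe h.UK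
    have hU' : IsPGroup p (U.subgroupOf K) := h.pU.of_equiv e1.symm
    have e2 : TK.subgroupOf K ≃* TK := Subgroup.subgroupOfEquivOfLe h.TKK
    have hT' : ¬ p ∣ Nat.card (TK.subgroupOf K) := by
      rw [Nat.card_congr e2.toEquiv]
      exact fun hd => h.TCp (hd.trans (Subgroup.card_dvd_of_le h.TKC))
    obtain ⟨c, hc⟩ := (h.rk1 hp hq).exists_conj_mem hp hU' hT' (v := ⟨v, hvK⟩) (k := k)
      (by rw [Subgroup.orderOf_mk, hk])
    have h2 : χ (y * ((c⁻¹ * ⟨v, hvK⟩ * c : K) : G)) = χ y := h1 _ hc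
    have h3 : y * ((c⁻¹ * ⟨v, hvK⟩ * c : K) : G) = (c : G)⁻¹ * (y * v) * (c : G)⁻¹⁻¹ := by
      show y * ((c : G)⁻¹ * v * c) = _
      have h4 : (c : G)⁻¹ * y = y * (c : G)⁻¹ := (h.KC _ (inv_mem c.2))
      rw [inv_inv, ← mul_assoc, ← mul_assoc, ← mul_assoc, h4]
    rw [h3] at h2
    show χ (y * v) = χ y
    rw [← h2]
    exact (irr_conj hχ _ _).symm
  · right
    have hm : ∑ g ∈ pel G p, χ g = (e : ℂ) * (p : ℂ) ^ m * χ 1 := by
      rw [H732.VZ.sum_pel_eq, ← hs]
      rfl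
    set s : G → ℤ := fun g => if g ∈ pel G p then 1 else 0 with hsdef
    have hs1 : ∀ g x : G, s (g * x * g⁻¹) = s x := by
      intro g y
      simp only [hsdef]
      have : g * y * g⁻¹ ∈ pel G p ↔ y ∈ pel G p := ⟨fun h => by
        have := H732.Kaw.conj_mem_pel g⁻¹ _ h
        have e : g⁻¹ * (g * y * g⁻¹) * g⁻¹⁻¹ = y := by group
        rwa [e] at this, H732.Kaw.conj_mem_pel g y⟩
      simp only [this]
    have hs2 : ∀ g, s g ≠ 0 → g ∈ pel G p := by
      intro g hg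
      by_contra hgp
      exact hg (by simp only [hsdef, if_neg hgp])
    have hs3 : ∀ g, s g ≠ 0 → ¬ r ∣ orderOf g := by
      intro g hg hd
      obtain ⟨k, hk⟩ := mem_pel.1 (hs2 g hg)
      rw [hk] at hd
      exact hrp ((Nat.prime_dvd_prime_iff_eq hr hp).1 (hr.dvd_of_dvd_pow hd))
    have hsum : ∑ g, (s g : ℂ) * χ g = ((e * p ^ m : ℤ) : ℂ) * χ 1 := by
      push_cast
      rw [← hm]
      have : ∀ g : G, (s g : ℂ) * χ g = if g ∈ pel G p then χ g else 0 := by
        intro g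
        simp only [hsdef]
        split_ifs <;> simp
      rw [Finset.sum_congr rfl fun g _ => this g, ← Finset.sum_filter]
      refine Finset.sum_congr ?_ fun _ _ => rfl
      ext g; simp
    have hcen : ∑ g ∈ univ.filter (Commute y), (s g : ℂ) * χ (y * g) = ((-(q : ℤ) : ℤ) : ℂ) * χ y := by
      push_cast
      have h2 := h.sum_eq hp hq ⟨χ, hχ⟩ h1 ((univ.filter (Commute y)).filter (· ∈ pel G p))
        (fun v => by
          rw [mem_filter, mem_filter, mem_pel]
          exact ⟨fun h => ⟨h.1.2, h.2⟩, fun h => ⟨⟨mem_univ _, h.1⟩, h.2⟩⟩)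
      refine Eq.trans ?_ h2
      rw [Finset.sum_filter (s := univ.filter (Commute y))]
      refine Finset.sum_congr rfl fun g _ => ?_
      simp only [hsdef]
      split_ifs <;> simp
    have := congr_gen hr h.ord s hs1 hs3 ⟨χ, hχ⟩ hsum hcen hrd
    rwa [sub_neg_eq_add] at this

end Cfsg.Agent.H695.OneZero
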